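import Cfsg.Agent.ZC.PW
import Cfsg.Agent.SE.Bender

/-! An abstract lemma: `z` fixes a unique point on `G/M`, `W ≤ M` elementary abelian, maximal with `C(W) ≰ M`. -/

set_option autoImplicit false
set_option linter.unusedSectionVars false

namespace Cfsg.Agent.HeR

open BG MulAction Subgroup Invol SE ZD

variable {G : Type*} [Group G] [Finite G] {M W : Subgroup G} {z : G}

structure HypD (M W : Subgroup G) (z : G) : Prop where
  two : orderOf z = 2
  mem : z ∈ M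
  fx : ∀ g, g * z * g⁻¹ ∈ M → g ∈ M
  c1 : ∀ x y, IsConj z x → IsConj z y → orderOf (x * y) = 4 → IsConj z ((x * y) ^ 2)
  le : W ≤ M
  zW : z ∈ C[W]
  nle : ¬ C[W] ≤ M
  mx : ∀ u ∈ C[W], u ∈ M → u * u = 1 → u ∉ W → C[W] ⊓ C1[u] ≤ M

namespace HypD
variable (h : HypD M W z) {x y g d : G}
include h

theorem sq (hx : IsConj z x) : x * x = 1 := mul_self_of (orderOf_of_isConj hx ▸ h.two)

theorem fx' (hx : IsConj z x) (h1 : x ∈ M) (h2 : g * x * g⁻¹ ∈ M) : g ∈ M := by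
  obtain ⟨k, rfl⟩ := isConj_iff.1 hx
  have := h.fx (g * k) (by simpa [mul_assoc] using h2)
  exact (M.mul_mem_cancel_right (h.fx k h1)).1 this

theorem of_comm (hx : IsConj z x) (h1 : x ∈ M) (hc : Commute g x) : g ∈ M :=
  h.fx' hx h1 (by rwa [hc.eq, mul_inv_cancel_right])

theorem not_W (hx : IsConj z x) : x ∉ W := fun hw =>
  h.nle fun g hg => h.of_comm hx (h.le hw) (hg x hw).symm

theorem key (hx : IsConj z x) (hy : IsConj z y) (n : ℕ) (h1 : ((x * y) ^ n) ^ 2 ∈ W) (h2 : orderOf (((x * y) ^ n) ^ 2) = 2) :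
    False := by
  have h3 : IsConj z (x * (x * y) ^ n) := by
    rcases Nat.even_or_odd n with e | e
    exacts [hx.trans (isConj_left_of_even (h.sq hx) (h.sq hy) e), hy.trans (isConj_right_of_odd (h.sq hx) (h.sq hy) e)]
  have e : x * (x * (x * y) ^ n) = (x * y) ^ n := mul_self_cancel (h.sq hx) _
  refine h.not_W (e ▸ h.c1 _ _ hx h3 ?_) h1
  rw [e]
  refine orderOf_eq_prime_pow (p := 2) (n := 1) (by simpa using ne_one_of h2) ?_
  rw [show 2 ^ (1 + 1) = 2 * 2 by rfl, pow_mul, _root_.sq, mul_self_of h2]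

theorem conj (hx : IsConj z x) (h1 : x ∈ C[W]) (h2 : x ∈ M) : ∃ l ∈ C[W], ∃ w ∈ W, x = l * (z * w) * l⁻¹ := by
  obtain ⟨l, hl, hlM⟩ := SetLike.not_le_iff_exists.1 h.nle
  have hy : IsConj z (l * z * l⁻¹) := isConj_iff.2 ⟨l, rfl⟩
  have hyL : l * z * l⁻¹ ∈ C[W] := mul_mem (mul_mem hl h.zW) (inv_mem hl)
  generalize ey : l * z * l⁻¹ = y at hy hyL
  have hr : x * y ∈ C[W] := mul_mem h1 hyL
  rcases Nat.even_or_odd (orderOf (x * y)) with e | e
  · obtain ⟨d1, d2, d3⟩ := half_pow_spec (h.sq hx) (h.sq hy) e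
    generalize orderOf (x * y) / 2 = m at d1 d2 d3
    have hW : (x * y) ^ m ∈ W := by_contra fun hW => hlM (h.fx l (ey ▸ h.mx _ (pow_mem hr m) (h.of_comm hx h2 d2)
      (mul_self_of d1) hW ⟨hyL, mem_centralizer_singleton_iff.2 d3.symm.eq⟩))
    rcases Nat.even_or_odd' m with ⟨j, rfl | rfl⟩
    · rw [mul_comm, pow_mul] at hW d1
      exact (h.key hx hy j hW d1).elim
    · refine ⟨(x * y) ^ (-(j : ℤ)) * l, mul_mem (zpow_mem hr _) hl, _, hW, ?_⟩
      have e1 := isConj_mul_zpow_even (conj_prod_right (h.sq hx) (h.sq hy)) j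
      have e2 : y * (x * y) ^ (2 * (j : ℤ)) = x * (x * y) ^ (2 * j + 1) := by
        rw [pow_succ', ← mul_assoc, mul_self_cancel (h.sq hx)]; norm_cast
      have e3 := (mul_mem (zpow_mem hr (-(j : ℤ))) hl) _ hW
      calc x = x * (x * y) ^ (2 * j + 1) * (x * y) ^ (2 * j + 1) := (mul_self_cancel' (mul_self_of d1) x).symm
        _ = (x * y) ^ (-(j : ℤ)) * l * z * (((x * y) ^ (-(j : ℤ)) * l)⁻¹ * (x * y) ^ (2 * j + 1)) := by
          rw [← e2, ← e1, ← ey]; group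
        _ = _ := by rw [← (Commute.inv_right e3).eq]; group
  · obtain ⟨k, e1⟩ := exists_conj_of_odd (h.sq hx) (h.sq hy) e
    refine ⟨((x * y) ^ k)⁻¹ * l, mul_mem (inv_mem (zpow_mem hr k)) hl, 1, one_mem _, ?_⟩
    calc x = ((x * y) ^ k)⁻¹ * ((x * y) ^ k * x * ((x * y) ^ k)⁻¹) * (x * y) ^ k := by group
      _ = _ := by rw [e1, ← ey]; group

theorem not_sq (hx : IsConj z x) (hy : IsConj z y) (x1 : x ∈ C[W]) (x2 : x ∈ M) (y1 : y ∈ C[W]) (y2 : y ∈ M)
    (h2 : Two (x * y)) : ¬ IsConj z ((x * y) ^ 2) := fun h3 => by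
  let F := C[W] ⧸ M.subgroupOf C[W]
  let ψ := (toPermHom C[W] F).rangeRestrict
  have sm : ∀ (l : C[W]) (q : F), ψ l • q = l • q := fun _ _ => rfl
  have fx : ∀ x l : C[W], x • (l : F) = l ↔ (l : G)⁻¹ * x * l ∈ M := fun x l => smul_mk_iff.trans mem_subgroupOf
  have un : ∀ x : C[W], IsConj z x → ∀ a b : F, x • a = a → x • b = b → a = b := fun x hx a b ha hb => by
    induction a using QuotientGroup.induction_on with | H a => ?_
    induction b using QuotientGroup.induction_on with | H b => ?_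
    rw [fx] at ha hb
    exact QuotientGroup.eq.2 (mem_subgroupOf.2 (h.fx' (g := (a : G)⁻¹ * b) (hx.trans (isConj_iff.2 ⟨(b : G)⁻¹, by simp⟩)) hb
      (by simpa [mul_assoc] using ha)))
  have un2 : ∀ u x : C[W], (u : G) * u = 1 → (u : G) ∉ W → IsConj z x → Commute (u : G) x → ∀ a : F, u • a = a →
      x • a = a := fun u x h1 h2 hx hc a ha => by
    induction a using QuotientGroup.induction_on with | H a => ?_
    rw [fx] at ha ⊢
    refine h.mx _ (a⁻¹ * u * a).2 ha (by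
      calc _ = (a : G)⁻¹ * (u * u) * a := by simp [mul_assoc]
        _ = 1 := by simp [h1]) (fun hw => h2 ?_) ⟨(a⁻¹ * x * a).2, mem_centralizer_singleton_iff.2 ?_⟩
    · have := a.2 _ hw
      have e : (u : G) = (a⁻¹ * u * a : C[W]) := by
        calc (u : G) = a * (a⁻¹ * u * a : C[W]) * (a : G)⁻¹ := by simp [mul_assoc]
          _ = _ := by rw [← this]; group
      exact e ▸ hw
    · simpa [mul_assoc] using (hc.symm.conj (a : G)⁻¹).eq
  obtain ⟨l, hl, hlM⟩ := SetLike.not_le_iff_exists.1 h.nle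
  have hab : ((1 : C[W]) : F) ≠ ((⟨l, hl⟩ : C[W]) : F) := fun e => hlM (by simpa [mem_subgroupOf] using QuotientGroup.eq.1 e)
  have nt : ∀ x : C[W], IsConj z x → ψ x ≠ 1 := fun x hx e => hab (un x hx _ _ (by rw [← sm, e, one_smul]) (by rw [← sm, e, one_smul]))
  have tW : ∀ x : C[W], (x : G) ∈ W → ψ x = 1 := fun x hx => Subtype.ext (Equiv.ext fun q => by
    induction q using QuotientGroup.induction_on with | H a => ?_
    exact (fx x a).2 (by rw [mul_assoc, a.2 _ hx]; simpa using h.le hx))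
  let Z : Set (toPermHom C[W] F).range := {p | ∃ x : C[W], ψ x = p ∧ IsConj z x ∧ ∃ q : F, x • q = q}
  have cZ : ∀ (x k : C[W]) (q : F), IsConj z x → x • q = q → ψ (k * x * k⁻¹) ∈ Z := fun x k q hx hq =>
    ⟨_, rfl, hx.trans (isConj_iff.2 ⟨k, rfl⟩), k • q, by rw [mul_smul, mul_smul, inv_smul_smul, hq]⟩
  have z1 : (⟨z, h.zW⟩ : C[W]) • ((1 : C[W]) : F) = (1 : C[W]) := (fx _ _).2 (by simpa using h.mem)
  have sq' : ∀ x : C[W], IsConj z x → x * x = 1 := fun x hx => Subtype.ext (h.sq hx)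
  have hP : PW _ F Z := by
    refine ⟨?_, ?_, ?_, ?_, fun a => ?_, ?_⟩
    · rintro _ ⟨x, rfl, hx, -⟩
      exact orderOf_two_iff.2 ⟨by rw [← map_mul, sq' x hx, map_one], nt x hx⟩
    · rintro _ ⟨x, rfl, hx, q, hq⟩ k
      obtain ⟨k, rfl⟩ := MonoidHom.rangeRestrict_surjective _ k
      simpa using cZ x k q hx hq
    · rintro _ ⟨x, rfl, hx, q, hq⟩; exact ⟨q, hq⟩
    · rintro _ ⟨x, rfl, hx, -⟩; exact un x hx
    · induction a using QuotientGroup.induction_on with | H a => ?_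
      exact ⟨_, cZ _ a _ (IsConj.refl z) z1, (fx _ _).2 (by simpa [mul_assoc] using h.mem)⟩
    · rintro _ ⟨x, rfl, hx, -⟩ _ ⟨y, rfl, hy, -⟩ hc hne a b ha hb
      have e0 : ψ (x * y) * ψ (x * y) = 1 := by
        rw [map_mul, mul_assoc, ← mul_assoc (ψ y), ← hc.eq, mul_assoc, ← map_mul, sq' y hy, map_one, mul_one, ← map_mul,
          sq' x hx, map_one]
      obtain ⟨m, t1, t2⟩ := exists_two_lift ψ (two_of_sq e0)
      have n1 : ψ ((x * y) ^ m) ≠ 1 := fun e => hne (by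
        rw [t2, map_mul] at e
        rw [← mul_one (ψ y), ← map_one ψ, ← sq' x hx, map_mul, ← mul_assoc, ← hc.eq, e, one_mul])
      have inv : ∀ n : ℕ, ((x * y) ^ n * (x * y) ^ n : C[W]) = 1 → Commute (((x * y) ^ n : C[W]) : G) x := fun n e =>
        commute_of_inverts_of_mul_self (conj_pow_of_inverts (conj_prod_left (h.sq hx) (h.sq hy)) n) (congrArg Subtype.val e)
      rw [← map_mul, ← t2, sm] at ha hb
      by_cases e : (x * y) ^ m * (x * y) ^ m = 1
      · have := un2 _ x (congrArg Subtype.val e) (fun hw => n1 (tW _ hw)) hx (inv m e)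
        exact un x hx _ _ (this a ha) (this b hb)
      · obtain ⟨k, hk⟩ := (t1.pow 2).exists_invol (by rwa [_root_.sq])
        have e1 : (((x * y) ^ m) ^ 2) ^ k = (x * y) ^ (m * k * 2) := by rw [← pow_mul, ← pow_mul]; congr 1; ring
        have e2 : ψ ((x * y) ^ (m * k * 2)) = 1 := by rw [← e1, map_pow, map_pow, t2, _root_.sq, e0, one_pow]
        rw [e1] at hk
        refine (h.key hx hy (m * k) ?_ ?_).elim
        · by_contra hw
          rw [← pow_mul] at hw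
          have := un2 _ x (congrArg Subtype.val (mul_self_of hk)) hw hx (inv _ (mul_self_of hk))
          exact hab (un x hx _ _ (this _ (by rw [← sm, e2, one_smul])) (this _ (by rw [← sm, e2, one_smul])))
        · rw [← pow_mul]; exact (Subgroup.orderOf_coe _).trans hk
  have hC := hP.pc hab fun d hd hk => absurd (Subtype.ext (Equiv.ext hk)) (ne_one_of hd)
  have mZ : ∀ x (hx : x ∈ C[W]), IsConj z x → x ∈ M → ψ ⟨x, hx⟩ ∈ Z := fun x hx h1 h2 =>
    ⟨_, rfl, h1, (1 : C[W]), (fx _ _).2 (by simpa using h2)⟩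
  have := hC.comm_of_two (mZ z h.zW (IsConj.refl z) h.mem) ((sm _ _).trans z1) (cZ _ ⟨l, hl⟩ _ (IsConj.refl z) z1)
    (fun e => hlM (h.fx l (by simpa using (fx _ _).1 ((sm _ _).symm.trans e)))) (mZ x x1 hx x2) (mZ y y1 hy y2) (by
      obtain ⟨n, e⟩ := h2
      exact ⟨n, by rw [← map_mul, ← map_pow, show (⟨x, x1⟩ * ⟨y, y1⟩ : C[W]) ^ 2 ^ n = 1 from Subtype.ext e, map_one]⟩)
  refine nt ((⟨x, x1⟩ * ⟨y, y1⟩) ^ 2) h3 ?_
  rw [map_pow, map_mul, this.mul_pow, ← map_pow, ← map_pow, _root_.sq, _root_.sq, sq' _ hx, sq' _ hy, map_one, one_mul]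

end HypD

end Cfsg.Agent.HeR
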