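import Cfsg.Agent.HeR.Rel
import Cfsg.Agent.HeR.LemD

/-! The group is generated by `H, a, d` (`Ty.top`), resp. by `H, a` (`A1.top`). -/

set_option autoImplicit false
set_option maxRecDepth 100000
set_option linter.unusedSectionVars false
set_option synthInstance.maxSize 2048

namespace Cfsg.Agent.HeR

open Cfsg.Agent.Comp Cfsg.Agent.Spor Cfsg.Agent.BG Cfsg.Agent.Invol

variable {G : Type*} [Group G] [Finite G] {f : ℕ → G} {a d g : G} {M W : Subgroup G} {ta td : ℕ}

theorem cls' {n : ℕ} (hn : V n) (h2 : mul n n = one) :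
    n = one ∨ n = z ∨ ∃ p ∈ LI, n = cjw (dw (Nat.shiftRight p 3)) (rp (Nat.land p 7)) := by
  have h1 : forceL (mapL (fun p => cjw (dw (Nat.shiftRight p 3)) (rp (Nat.land p 7))) LI) (fun L =>
      scanH fun n => imp (Nat.beq (mul n n) one) (bor (Nat.beq n one) (bor (Nat.beq n z) (memL n L)))) = true := by
    decide +kernel
  rw [forceL_eq] at h1
  have := scan h1 hn
  simp only [imp_iff, nbeq, bor_eq, Bool.or_eq_true, memL_iff, mapL_eq, List.mem_map] at this
  rcases this h2 with h | h | ⟨p, hp, h⟩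
  exacts [.inl h, .inr (.inl h), .inr (.inr ⟨p, hp, h.symm⟩)]

theorem St.mem_gen (h : St f) {k : ℕ} (hk : 6 ≤ k) {n : ℕ} (hn : V n) : f n ∈ genL (HeR.gg f a d) (List.range k) := by
  obtain ⟨w, rfl⟩ := hn.gen
  rw [h.evc]
  clear hn
  induction w with
  | nil => exact one_mem _
  | cons l w ih =>
    refine mul_mem ih ?_
    by_cases hl : l < 6
    · have := mem_genL (HeR.gg f a d) (List.mem_range.2 (hl.trans_le hk))
      rwa [HeR.gg, if_neg (by omega), if_neg (by omega)] at this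
    · have : gc l = HeR.one := by rw [gc, nthL_eq, List.getD_eq_default _ _ (by simpa [gl] using hl)]
      simp only [this, h.one, one_mem]

theorem St.T_le (h : St f) (hM : ∀ {n}, V n → f n ∈ M) : TG f ≤ M := fun x hx => by
  obtain ⟨v, -, rfl⟩ := h.mem_T hx; exact hM (V_tc v)

theorem St.to_T (h : St f) (hM : ∀ {n}, V n → f n ∈ M) {A : Subgroup G} (hA : A ≤ M) (hp : IsPGroup 2 A) :
    ∃ m ∈ M, cj m A ≤ TG f := Sylow_Jsub (pHall_subl (h.T_le hM) le_top h.syl) hA hp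

theorem St.to_rp (h : St f) (hM : ∀ {n}, V n → f n ∈ M) {x : G} (hx : x ∈ M) (h2 : orderOf x = 2) :
    ∃ m ∈ M, m * x * m⁻¹ = f z ∨ ∃ i < 7, m * x * m⁻¹ = f (rp i) := by
  obtain ⟨m, hm, h3⟩ := h.to_T hM (Subgroup.zpowers_le.2 hx) (IsPGroup.of_card (n := 1) (by simpa using h2))
  obtain ⟨v, -, e⟩ := h.mem_T (h3 (conj_mem_cj m (Subgroup.mem_zpowers x)))
  have h4 := BG.orderOf_conj' m x
  rw [h2, e] at h4
  rcases cls (V_tc v) ((h.sq (V_tc v)).1 (mul_self_of h4)) with e1 | e1 | ⟨i, hi, w, e1⟩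
  · exact absurd ((h.eq_one (V_tc v)).2 e1) (ne_one_of h4)
  · exact ⟨m, hm, .inl (e1 ▸ e)⟩
  · refine ⟨(f (HeR.evc w))⁻¹ * m, mul_mem (inv_mem (hM (V_evc w))) hm, .inr ⟨i, hi, ?_⟩⟩
    rw [e1, h.cjw w (V_rp i)] at e
    calc _ = (f (HeR.evc w))⁻¹ * (m * x * m⁻¹) * f (HeR.evc w) := by group
      _ = _ := by rw [e]; group

theorem St.fx (h : St f) (hM : ∀ {n}, V n → f n ∈ M) (H : ∀ i < 7, Fu f (rp i) → ∃ m ∈ M, m * f (rp i) * m⁻¹ = f z)
    (g : G) (hg : g * f z * g⁻¹ ∈ M) : g ∈ M := by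
  obtain ⟨m, hm, e⟩ : ∃ m ∈ M, m * (g * f z * g⁻¹) * m⁻¹ = f z := by
    obtain ⟨m, hm, e | ⟨i, hi, e⟩⟩ := h.to_rp hM hg ((BG.orderOf_conj' ..).trans h.order_z)
    · exact ⟨m, hm, e⟩
    · obtain ⟨k, hk, e1⟩ := H i hi (isConj_iff.2 ⟨m * g, by rw [← e]; group⟩)
      exact ⟨k * m, mul_mem hk hm, (by rw [← e]; group : _ = _).trans e1⟩
  obtain ⟨n, hn, e1⟩ := h.surj (m * g) (mul_inv_eq_iff_eq_mul.1 ((by group : _ = _).trans e))
  exact (M.mul_mem_cancel_left hm).1 (e1 ▸ hM hn)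

/-- `C_T(t)` is a Sylow 2-subgroup of `C_M(t)` -/
theorem St.syl_t (h : St f) (hM : ∀ {n}, V n → f n ∈ M) : SylowIn 2 (TG f ⊓ C1[f (rp 2)]) (M ⊓ C1[f (rp 2)]) := by
  have h1 : TG f ⊓ C1[f (rp 2)] ≤ M ⊓ C1[f (rp 2)] := inf_le_inf_right _ (h.T_le hM)
  refine Sylow_subnorm (max_pgroup_Sylow (le_inf h1 Subgroup.le_normalizer) (h.syl.pg.to_inf_left) fun Q _ h2 h3 =>
    le_antisymm (fun g hg => ?_) h2)
  obtain ⟨⟨-, g2⟩, g3⟩ := h3 hg
  have hz : f z ∈ TG f ⊓ C1[f (rp 2)] := ⟨h.z_mem_T, Subgroup.mem_centralizer_singleton_iff.2 (h.comm_z (V_rp 2)).symm.eq⟩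
  have hS : ∀ x ∈ [17043525, 17043529, 17043537, 17043649, 17043777, 17044033, 17051713, 17059905, 17567811], V x ∧ f x ∈ TG f ⊓ C1[f (rp 2)] := fun x hx => by
    have : x = tc (gT x) ∧ HeR.cm x (rp 2) = true := by revert x; decide +kernel
    exact ⟨this.1 ▸ V_tc _, this.1 ▸ h.tc_mem _, Subgroup.mem_centralizer_singleton_iff.2
      ((h.cm (this.1 ▸ V_tc _) (V_rp 2)).1 this.2).eq⟩
  obtain ⟨v, -, e⟩ := h.mem_T (conj_mem_of_norm g3 hz).1
  have h4 := memL_iff.1 (imp_iff.1 (scan (P := fun n => imp (Comp.allL [17043525, 17043529, 17043537, 17043649, 17043777, 17044033, 17051713, 17059905, 17567811] (HeR.cm n)) (memL n [HeR.one, z, rp 2, 17044057]))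
    (by decide +kernel) (V_tc v)) (Comp.allL_iff.2 fun x hx => (h.cm (V_tc v) (hS x hx).1).2 (by
      have := Subgroup.mem_centralizer_singleton_iff.1 (h.T_le_C (conj_mem_of_norm (inv_mem g3) (hS x hx).2).1)
      rw [← e]
      calc g * f z * g⁻¹ * f x = g * (f z * (g⁻¹ * f x * g⁻¹⁻¹)) * g⁻¹ := by group
        _ = _ := by rw [← this]; group)))
  have hf : Fu f (tc v) := isConj_iff.2 ⟨g, e⟩
  simp only [List.mem_cons, List.not_mem_nil, or_false] at h4
  rcases h4 with e1 | e1 | e1 | e1 <;> rw [e1] at e hf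
  · exact absurd (by simpa [h.one] using e) h.z_ne
  · obtain ⟨n, hn, rfl⟩ := h.surj g (mul_inv_eq_iff_eq_mul.1 e)
    have := nbeq.1 (imp_iff.1 (scan (P := fun n => imp (HeR.cm n (rp 2)) (Nat.beq n (tc (gT n)))) (by decide +kernel) hn)
      ((h.cm hn (V_rp 2)).2 (Subgroup.mem_centralizer_singleton_iff.1 g2)))
    exact ⟨this ▸ h.tc_mem _, g2⟩
  · exact absurd hf h.nfu_t
  · exact absurd ((h.fu_cjw (dw 1) (V_rp 2)).1 (by rwa [show HeR.cjw (dw 1) (rp 2) = 17044057 by decide +kernel])) h.nfu_t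

/-- a maximal elementary abelian subgroup with centraliser not in `M` -/
theorem exists_W (hM : M ≠ ⊤) : ∃ W ≤ M, (∀ w ∈ W, w * w = 1) ∧ ∀ m ∈ M, ¬ C[cj m W] ≤ M ∧
    ∀ u ∈ C[cj m W], u ∈ M → u * u = 1 → u ∉ cj m W → C[cj m W] ⊓ C1[u] ≤ M := by
  obtain ⟨W, ⟨h1, h2, h3⟩, hmax⟩ := Set.exists_max_image {W : Subgroup G | W ≤ M ∧ (∀ w ∈ W, w * w = 1) ∧ ¬ C[W] ≤ M}
    (fun W => #W) (Set.toFinite _) ⟨⊥, bot_le, by simp, fun e => hM (top_le_iff.1 fun g _ => e (by simp [Subgroup.mem_centralizer_iff]))⟩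
  refine ⟨W, h1, h2, fun m hm => ⟨by rwa [C_cj, cj_le_iff_of_mem hm], fun u u1 u2 u3 u4 => by_contra fun u5 => ?_⟩⟩
  have h4 : ∀ w ∈ cj m W, w * w = 1 := by
    rintro _ ⟨w, hw, rfl⟩; rw [← map_mul, h2 w hw, map_one]
  have h5 := cj_le_of_mem hm h1
  have h6 := card_cj m W
  generalize cj m W = W' at *
  have c : ∀ {x}, x * u ∈ W' → Commute x u := fun {x} hx => by
    have := (Commute.mul_left (u1 _ hx) (Commute.refl u))
    rwa [mul_self_cancel' u3] at this
  let X : Subgroup G :=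
    { carrier := {x | x ∈ W' ∨ x * u ∈ W'}
      one_mem' := .inl (one_mem _)
      mul_mem' := by
        rintro x y (hx | hx) (hy | hy)
        · exact .inl (mul_mem hx hy)
        · exact .inr (mul_assoc x y u ▸ mul_mem hx hy)
        · exact .inr (by rw [mul_assoc, u1 y hy, ← mul_assoc]; exact mul_mem hx hy)
        · exact .inl (by
            have := mul_mem hx hy
            rwa [mul_assoc, ← mul_assoc u, ← (c hy).eq, mul_self_cancel' u3] at this)
      inv_mem' := by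
        rintro x (hx | hx)
        · exact .inl (inv_mem hx)
        · exact .inr (by
            have := inv_mem hx
            rwa [mul_inv_rev, inv_eq_of_mul_self u3, ← (c hx).inv_left.eq] at this) }
  have h7 := hmax X ⟨fun x hx => hx.elim (fun e => h5 e) fun e => (M.mul_mem_cancel_right u2).1 (h5 e), fun x hx =>
    hx.elim (h4 x) fun e => by
      have := h4 _ e
      rwa [mul_assoc, ← mul_assoc u, ← (c e).eq, mul_self_cancel' u3] at this, fun e => u5 (le_trans (show _ ≤ C[X] from fun g hg x hx => ?_) e)⟩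
  · have : W' = X := Subgroup.eq_of_le_of_card_ge (fun x hx => .inl hx) (h6 ▸ h7)
    exact u4 (this ▸ .inr (u3 ▸ one_mem _))
  · rcases hx with hx | hx
    · exact hg.1 x hx
    · have := Commute.mul_left (hg.1 _ hx) (Subgroup.mem_centralizer_singleton_iff.1 hg.2).symm
      rwa [mul_self_cancel' u3] at this

def zw (k i : ℕ) : List ℕ := dw (nthL 0 (nthL [] [[8, 7, 0, 135, 7, 1670, 1397], [8, 7, 0, 135, 7, 554628, 1397], [8, 7, 0, 135, 7, 554628, 554353]] k) i)
def zt (k n : ℕ) : Bool := tb (nthL 0 [7360198307048065029934624620675715688448774695782720856767472279892934478438496306637611739022585347226933979317349336793710860752893844060806273230741889549207826821387945192178358632534358168227656813769589448426691679698148656052110925592126896340990, 7360198307048065029934624620675715688448774695782720856767472279892934478438496306637611739022585347227043090672679981354182110339269919104254942327983672515125051130338199971955332407561787639329698335344812292912702430840947197561561134976655240331262,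 134661257059040655870852741206215270089915763971697258946441478881501653470267815091867094845316605814458700208235763549112539648895401863660076181192791670430555466485129636915188698287114134522594394010122820609305110832113451741522684386800450158459078385293241745406] k) (gT n)
def LZ (k : ℕ) : List ℕ := filterL (zt k) (mapL tc (List.range 1024))
def LX (k : ℕ) : List ℕ := filterL (fun n => band (Nat.beq (mul n n) one) (band (cm n (rp 2)) (band (!zt k n) (!zt k (mul n (rp 2))))))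
  (mapL tc (List.range 1024))
def wit (k : ℕ) : List (ℕ × ℕ × ℕ) := nthL [] [[(17043661, 17043529, 0), (17043665, 17043529, 0), (17043669, 17043529, 0), (17043673, 17043529, 0), (17043781, 17043529, 0), (17043789, 17043525, 0), (17043797, 17043529, 0), (17043805, 17043529, 0), (17043909, 17043525, 0), (17043921, 17043525, 0), (17043929, 17043529, 0), (17043933, 17043529, 0), (17044165, 17043529, 0), (17044177, 17043529, 0), (17044185, 17043529, 0), (17044189, 17043529, 0), (17044293, 17043525, 0), (17044301, 17043529, 0), (17044309, 17043529, 0), (17044317, 17043529, 0), (17044429, 17043525, 0), (17044433, 17043529, 0), (17044437, 17043529, 0), (17044441, 17043525, 0), (17051729, 17043529, 0), (17051737, 17043529, 0), (17051985, 17043529, 0), (17051993, 17043529, 0), (17052241, 17043529, 0), (17052249, 17043529, 0), (17052497, 17043529, 0), (17052505, 17043529, 0), (17060161, 17043529, 0), (17060169, 17043529, 0), (17060177, 17043529,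 0), (17060185, 17043529, 0), (17060673, 17043529, 0), (17060681, 17043529, 0), (17060689, 17043529, 0), (17060697, 17043529, 0), (17068105, 17043529, 0), (17068113, 17043529, 0), (17068353, 17043529, 0), (17068377, 17043529, 0), (17068609, 17043529, 0), (17068633, 17043529, 0), (17068873, 17043529, 0), (17068881, 17043529, 0), (17567815, 17043525, 17060417), (17567831, 17043525, 17060417), (17568335, 17043525, 17060417), (17568351, 17043525, 17060417), (17584195, 17043533, 17059905), (17584207, 17043533, 17060417), (17584211, 17043533, 17059905), (17584223, 17043533, 17060417), (17584711, 17043533, 17060417), (17584715, 17043533, 17059905), (17584727, 17043533, 17060417), (17584731, 17043533, 17059905)], [(17051729, 17043529, 0), (17051737, 17043529, 0), (17051985, 17043529, 0), (17051993, 17043529, 0), (17052241, 17043529, 0), (17052249, 17043529, 0), (17052497, 17043529, 0), (17052505, 17043529, 0), (17060161, 17043529, 0), (17060169,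 17043529, 0), (17060177, 17043529, 0), (17060185, 17043529, 0), (17060673, 17043529, 0), (17060681, 17043529, 0), (17060689, 17043529, 0), (17060697, 17043529, 0), (17068105, 17043529, 0), (17068113, 17043529, 0), (17068353, 17043529, 0), (17068377, 17043529, 0), (17068609, 17043529, 0), (17068633, 17043529, 0), (17068873, 17043529, 0), (17068881, 17043529, 0), (17567815, 17043525, 17060417), (17567831, 17043525, 17060417), (17568335, 17043525, 17060417), (17568351, 17043525, 17060417), (17584195, 17043533, 17059905), (17584207, 17043533, 17060417), (17584211, 17043533, 17059905), (17584223, 17043533, 17060417), (17584711, 17043533, 17060417), (17584715, 17043533, 17059905), (17584727, 17043533, 17060417), (17584731, 17043533, 17059905)], [(17567815, 17043525, 17060417), (17567831, 17043525, 17060417), (17568335, 17043525, 17060417), (17568351, 17043525, 17060417), (17584195, 17043533, 17059905), (17584207, 17043533, 17060417), (17584211,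 17043533, 17059905), (17584223, 17043533, 17060417), (17584711, 17043533, 17060417), (17584715, 17043533, 17059905), (17584727, 17043533, 17060417), (17584731, 17043533, 17059905)]] k
def TY : List (ℕ × ℕ) := [(0, 0), (0, 1), (1, 1)]

namespace Ty
variable (H : Ty f a d ta td) (h : St f) (ht : (ta, td) ∈ TY)
include H h ht

theorem rp_conj {i : ℕ} (hi : i < 7) : ∃ m ∈ genL (gg f a d) (List.range 8),
    m * f (rp i) * m⁻¹ = f (actw (al ta) (de td) okC okE (zw (ta + td) i) (rp i)) ∧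
    actw (al ta) (de td) okC okE (zw (ta + td) i) (rp i) ∈ [z, rp 2] := by
  have : ∀ p ∈ TY, ∀ i < 7, (∀ x ∈ zw (p.1 + p.2) i, x ∈ List.range 8) ∧
    actw (al p.1) (de p.2) okC okE (zw (p.1 + p.2) i) (rp i) ∈ [z, rp 2] := by decide +kernel
  obtain ⟨h1, h2⟩ := this _ ht i hi
  refine ⟨_, ev_mem_genL _ h1, (h.actw H.ha H.hd _ (V_rp i) fun e => ?_).2.2, h2⟩
  rw [e] at h2; revert h2; decide

theorem zt_iff {n : ℕ} (hn : V n) (hT : f n ∈ TG f) (h2 : f n * f n = 1) : zt (ta + td) n = true ↔ Fu f n := by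
  obtain ⟨v, hv, e⟩ := h.mem_T hT
  have e1 : n = tc (gT n) := by rw [h.inj hn (V_tc v) e, (tc_spec hv).1]
  have k : ∀ p ∈ TY, zt (p.1 + p.2) one = false ∧ zt (p.1 + p.2) z = true ∧ Comp.allL LI (fun q =>
      band (Nat.blt (Nat.land q 7) 7) (force (cjw (dw (Nat.shiftRight q 3)) (rp (Nat.land q 7))) fun n =>
      imp (Nat.beq n (tc (gT n))) (zt (p.1 + p.2) n == Nat.beq z
        (actw (al p.1) (de p.2) okC okE (zw (p.1 + p.2) (Nat.land q 7)) (rp (Nat.land q 7)))))) = true := by decide +kernel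
  obtain ⟨k1, k2, k3⟩ := k _ ht
  rcases cls' hn ((h.sq hn).1 h2) with rfl | rfl | ⟨q, hq, e2⟩
  · simp only [k1, Fu, h.one, isConj_one_left, h.z_ne, Bool.false_eq_true]
  · simp only [k2, Fu, IsConj.refl]
  · have := Comp.allL_iff.1 k3 q hq
    simp only [band_eq, Bool.and_eq_true, nblt, force_eq, ← e2, imp_iff, nbeq, beq_iff_eq] at this
    obtain ⟨m, -, e3, e4⟩ := H.rp_conj h ht this.1
    rw [this.2 e1, nbeq, e2, h.fu_cjw _ (V_rp _), h.fu_of e3]
    simp only [List.mem_cons, List.not_mem_nil, or_false] at e4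
    rcases e4 with e4 | e4 <;> rw [e4]
    · simp only [Fu, IsConj.refl]
    · exact iff_of_false (by decide) h.nfu_t

theorem mem_LZ {x : G} (hT : x ∈ TG f) (hx : IsConj (f z) x) : ∃ n ∈ LZ (ta + td), V n ∧ x = f n := by
  obtain ⟨v, hv, rfl⟩ := h.mem_T hT
  refine ⟨_, ?_, V_tc v, rfl⟩
  simp only [LZ, filterL_eq, mapL_eq, List.mem_filter, List.mem_map, List.mem_range]
  exact ⟨⟨v, hv, rfl⟩, (H.zt_iff h ht (V_tc v) hT (mul_self_of (orderOf_of_isConj hx ▸ h.order_z))).2 hx⟩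

theorem of_LZ {n : ℕ} (hn : n ∈ LZ (ta + td)) : V n ∧ f n ∈ TG f ∧ Fu f n := by
  have k : ∀ p ∈ TY, Comp.allL (LZ (p.1 + p.2)) (fun n => Nat.beq (mul n n) one) = true := by decide +kernel
  have h1 := nbeq.1 (Comp.allL_iff.1 (k _ ht) n hn)
  simp only [LZ, filterL_eq, mapL_eq, List.mem_filter, List.mem_map, List.mem_range] at hn
  obtain ⟨⟨v, -, rfl⟩, h2⟩ := hn
  exact ⟨V_tc v, h.tc_mem v, (H.zt_iff h ht (V_tc v) (h.tc_mem v) ((h.sq (V_tc v)).2 h1)).1 h2⟩

theorem c1 (x y : G) (hx : IsConj (f z) x) (hy : IsConj (f z) y) (h4 : orderOf (x * y) = 4) : IsConj (f z) ((x * y) ^ 2) := by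
  obtain ⟨m, -, h3⟩ := Sylow_Jsub h.syl le_top (isPGroup_closure_pair (mul_self_of (orderOf_of_isConj hx ▸ h.order_z))
    (mul_self_of (orderOf_of_isConj hy ▸ h.order_z)) (n := 2) (by rw [show 2 ^ 2 = orderOf (x * y) from h4.symm]; exact pow_orderOf_eq_one _))
  have x1 := h3 (conj_mem_cj m (Subgroup.subset_closure (Set.mem_insert x _)))
  have y1 := h3 (conj_mem_cj m (Subgroup.subset_closure (Set.mem_insert_of_mem x rfl)))
  obtain ⟨n, n1, n2, n3⟩ := H.mem_LZ h ht x1 (hx.trans (isConj_iff.2 ⟨m, rfl⟩))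
  obtain ⟨l, l1, l2, l3⟩ := H.mem_LZ h ht y1 (hy.trans (isConj_iff.2 ⟨m, rfl⟩))
  have k : ∀ p ∈ TY, forceL (LZ (p.1 + p.2)) (fun L => Comp.allL L fun x => Comp.allL L fun y => force (mul x y) fun s =>
      force (mul s s) fun s => bor (Nat.beq s one) (bor (zt (p.1 + p.2) s) (!Nat.beq (mul s s) one))) = true := by decide +kernel
  have k1 := k _ ht
  simp only [forceL_eq, Comp.allL_iff, force_eq, bor_eq, Bool.or_eq_true, nbeq, Bool.not_eq_true', nbeq_false] at k1
  have hV := (n2.mul l2).mul (n2.mul l2)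
  have e : f (mul (mul n l) (mul n l)) = m * (x * y) ^ 2 * m⁻¹ := by
    rw [h.mul (n2.mul l2) (n2.mul l2), h.mul n2 l2, ← n3, ← l3, sq]; group
  have e2 : orderOf (f (mul (mul n l) (mul n l))) = 2 := by rw [e, BG.orderOf_conj', orderOf_pow, h4]; rfl
  rcases k1 n n1 l l1 with k2 | k2 | k2
  · exact absurd ((h.eq_one hV).2 k2) (ne_one_of e2)
  · refine ((H.zt_iff h ht hV ?_ (mul_self_of e2)).1 k2).trans (isConj_iff.2 ⟨m, e.symm⟩).symm
    rw [h.mul (n2.mul l2) (n2.mul l2), h.mul n2 l2, ← n3, ← l3]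
    exact mul_mem (mul_mem x1 y1) (mul_mem x1 y1)
  · exact absurd ((h.sq hV).1 (mul_self_of e2)) k2

theorem top : genL (gg f a d) (List.range 8) = ⊤ := by
  by_contra hM
  generalize eM : genL (gg f a d) (List.range 8) = M at hM
  have hH : ∀ {n}, V n → f n ∈ M := fun hn => eM ▸ h.mem_gen (by decide) hn
  have hr : ∀ i < 7, ∃ m ∈ M, m * f (rp i) * m⁻¹ = f z ∨ m * f (rp i) * m⁻¹ = f (rp 2) := fun i hi => by
    obtain ⟨m, hm, e1, e2⟩ := H.rp_conj h ht hi
    simp only [List.mem_cons, List.not_mem_nil, or_false] at e2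
    exact ⟨m, eM ▸ hm, e2.imp (e1.trans <| congrArg f ·) (e1.trans <| congrArg f ·)⟩
  have fx := h.fx hH fun i hi hf => (hr i hi).imp fun m hm => ⟨hm.1, hm.2.resolve_right fun e => h.nfu_t ((h.fu_of e).1 hf)⟩
  obtain ⟨W, w1, w2, w3⟩ := exists_W hM
  have hD : ∀ m ∈ M, cj m W ≤ TG f → HypD M (cj m W) (f z) := fun m hm hT =>
    ⟨h.order_z, hH V_z, fx, H.c1 h ht, cj_le_of_mem hm w1, fun w hw =>
      Subgroup.mem_centralizer_singleton_iff.1 (h.T_le_C (hT hw)), (w3 m hm).1, (w3 m hm).2⟩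
  have nsq : ∀ {W : Subgroup G}, HypD M W (f z) → ∀ x ∈ LZ (ta + td), ∀ y ∈ LZ (ta + td), f x ∈ C[W] → f y ∈ C[W] →
      mul (mul x y) (mul x y) ∉ LZ (ta + td) := fun hD x hx y hy x1 y1 h1 => by
    obtain ⟨x2, x3, x4⟩ := H.of_LZ h ht hx
    obtain ⟨y2, y3, y4⟩ := H.of_LZ h ht hy
    refine hD.not_sq x4 y4 x1 (hH x2) y1 (hH y2) (ZD.two_of_mem h.syl.pg (mul_mem x3 y3)) ?_
    have := (H.of_LZ h ht h1).2.2
    rwa [Fu, h.mul (x2.mul y2) (x2.mul y2), h.mul x2 y2, ← sq] at this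
  have k0 : ∀ p ∈ TY, x1 ∈ LZ (p.1 + p.2) ∧ x3 ∈ LZ (p.1 + p.2) ∧ mul (mul x1 x3) (mul x1 x3) ∈ LZ (p.1 + p.2) := by
    decide +kernel
  obtain ⟨k1, k2, k3⟩ := k0 _ ht
  by_cases hW : W = ⊥
  · subst hW
    refine nsq (hD 1 (one_mem _) (by simp)) x1 k1 x3 k2 ?_ ?_ k3 <;> simp [Subgroup.mem_centralizer_iff]
  obtain ⟨⟨w, hw⟩, hw1⟩ := Subgroup.ne_bot_iff_exists_ne_one.1 hW
  have hp : IsPGroup 2 W := fun x => ⟨1, Subtype.ext (by simpa [sq] using w2 x x.2)⟩
  obtain ⟨m, hm, e⟩ : ∃ m ∈ M, m * w * m⁻¹ = f (rp 2) := by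
    have hz : ∀ m ∈ M, m * w * m⁻¹ ≠ f z := fun m hm e => (w3 m hm).1 fun g hg => fx g (by
      rw [← e, ← hg _ (conj_mem_cj m hw), mul_inv_cancel_right, e]; exact hH V_z)
    obtain ⟨m, hm, e | ⟨i, hi, e⟩⟩ := h.to_rp hH (w1 hw) (orderOf_two_iff.2 ⟨w2 w hw, fun e => hw1 (Subtype.ext e)⟩)
    · exact absurd e (hz m hm)
    · obtain ⟨k, hk, e1 | e1⟩ := hr i hi
      · exact absurd (by rw [← e1, ← e]; group) (hz _ (mul_mem hk hm))
      · exact ⟨_, mul_mem hk hm, by rw [← e1, ← e]; group⟩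
  obtain ⟨m', ⟨hm', c'⟩, hle⟩ := Sylow_Jsub (h.syl_t hH) (Q := cj m W) (le_inf (cj_le_of_mem hm w1) (by
    rintro _ ⟨x, hx, rfl⟩
    rw [← e]
    exact Subgroup.mem_centralizer_singleton_iff.2
      ((commute_of_mul_sq (w2 x hx) (w2 w hw) (w2 _ (mul_mem hx hw))).conj m).eq)) (hp.map _)
  rw [← cj_mul] at hle
  have hD' := hD _ (mul_mem hm' hm) (hle.trans inf_le_left)
  have tW : f (rp 2) ∈ cj (m' * m) W := by
    have := conj_mem_cj (m' * m) hw
    rwa [show m' * m * w * (m' * m)⁻¹ = m' * (m * w * m⁻¹) * m'⁻¹ by group, e, Subgroup.mem_centralizer_singleton_iff.1 c',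
      mul_inv_cancel_right] at this
  have sqW : ∀ x ∈ cj (m' * m) W, x * x = 1 := by
    rintro _ ⟨w, hw, rfl⟩; rw [← map_mul, w2 w hw, map_one]
  generalize cj (m' * m) W = X at hle hD' tW sqW
  have nz : ∀ {n}, V n → f n ∈ X → zt (ta + td) n = false := fun hn hx =>
    Bool.eq_false_iff.2 fun e => hD'.not_W ((H.zt_iff h ht hn (hle hx).1 (sqW _ hx)).1 e) hx
  have hX : ∀ x ∈ X, ∃ n ∈ LX (ta + td), V n ∧ x = f n := fun x hx => by
    obtain ⟨v, hv, rfl⟩ := h.mem_T (hle hx).1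
    refine ⟨_, ?_, V_tc v, rfl⟩
    simp only [LX, filterL_eq, mapL_eq, List.mem_filter, List.mem_map, List.mem_range, band_eq, Bool.and_eq_true, nbeq,
      Bool.not_eq_true']
    exact ⟨⟨v, hv, rfl⟩, (h.sq (V_tc v)).1 (sqW _ hx), (h.cm (V_tc v) (V_rp 2)).2
      (Subgroup.mem_centralizer_singleton_iff.1 (hle hx).2), nz (V_tc v) hx,
      nz ((V_tc v).mul (V_rp 2)) (h.mul (V_tc v) (V_rp 2) ▸ mul_mem hx tW)⟩
  have k : ∀ p ∈ TY, forceL (LZ (p.1 + p.2)) (fun LZ => forceL (LX (p.1 + p.2)) fun LX => Comp.allL LX fun n0 =>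
      bor (band (cm n0 x1) (cm n0 x3)) (anyL (wit (p.1 + p.2)) fun q => band (Nat.beq q.1 n0) (band (memL q.2.1 LZ)
        (bor (band (memL q.2.2 LZ) (band (memL (mul (mul q.2.1 q.2.2) (mul q.2.1 q.2.2)) LZ) (Comp.allL LX fun n =>
          imp (cm n n0) (imp (!zt (p.1 + p.2) (mul n n0)) (imp (!zt (p.1 + p.2) (mul (mul n n0) (rp 2)))
            (band (cm n q.2.1) (cm n q.2.2)))))))
        (Comp.allL LX fun n => imp (cm n n0) (imp (!zt (p.1 + p.2) (mul n n0)) (imp (!zt (p.1 + p.2) (mul (mul n n0) (rp 2)))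
            (band (cm n q.2.1) (anyL [one, rp 2, n0, mul n0 (rp 2)] fun w =>
              zt (p.1 + p.2) (mul q.2.1 w) != zt (p.1 + p.2) (mul z (mul n w))))))))))) = true := by decide +kernel
  have k4 := k _ ht
  simp only [forceL_eq, Comp.allL_iff, bor_eq, band_eq, Bool.or_eq_true, Bool.and_eq_true, anyL_iff, nbeq, memL_iff, imp_iff,
    Bool.not_eq_true', bne_iff_ne] at k4
  by_cases hc : f x1 ∈ C[X] ∧ f x3 ∈ C[X]
  · exact nsq hD' x1 k1 x3 k2 hc.1 hc.2 k3
  obtain ⟨n0, n1, n2, n3, n4⟩ : ∃ n0 ∈ LX (ta + td), V n0 ∧ f n0 ∈ X ∧ ¬ (cm n0 x1 = true ∧ cm n0 x3 = true) := by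
    by_contra! hn
    refine hc ⟨fun x hx => ?_, fun x hx => ?_⟩ <;> obtain ⟨n, n1, n2, rfl⟩ := hX x hx
    exacts [(h.cm n2 V_x1).1 (hn n n1 n2 hx).1, (h.cm n2 V_x3).1 (hn n n1 n2 hx).2]
  have cp : ∀ {n}, V n → f n ∈ X → cm n n0 = true ∧ zt (ta + td) (mul n n0) = false ∧
      zt (ta + td) (mul (mul n n0) (rp 2)) = false := fun hn hx =>
    ⟨(h.cm hn n2).2 (commute_of_mul_sq (sqW _ hx) (sqW _ n3) (sqW _ (mul_mem hx n3))),
      nz (hn.mul n2) (h.mul hn n2 ▸ mul_mem hx n3),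
      nz ((hn.mul n2).mul (V_rp 2)) (by rw [h.mul (hn.mul n2) (V_rp 2), h.mul hn n2]; exact mul_mem (mul_mem hx n3) tW)⟩
  obtain ⟨⟨_, x, y⟩, -, rfl, q1, ⟨q2, q3, q4⟩ | q4⟩ := (k4 n0 n1).resolve_left n4
  · refine nsq hD' x q1 y q2 (fun w hw => ?_) (fun w hw => ?_) q3 <;> obtain ⟨n, n1, n2, rfl⟩ := hX w hw
    · exact (h.cm n2 (H.of_LZ h ht q1).1).1 (q4 n n1 (cp n2 hw).1 (cp n2 hw).2.1 (cp n2 hw).2.2).1
    · exact (h.cm n2 (H.of_LZ h ht q2).1).1 (q4 n n1 (cp n2 hw).1 (cp n2 hw).2.1 (cp n2 hw).2.2).2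
  · obtain ⟨x1, x2, x3⟩ := H.of_LZ h ht q1
    have xC : f x ∈ C[X] := fun w hw => by
      obtain ⟨n, n1, n2, rfl⟩ := hX w hw
      exact (h.cm n2 x1).1 (q4 n n1 (cp n2 hw).1 (cp n2 hw).2.1 (cp n2 hw).2.2).1
    obtain ⟨l, hl, w', hw', e1⟩ := hD'.conj x3 xC (hH x1)
    obtain ⟨n, n1, n5, rfl⟩ := hX w' hw'
    obtain ⟨w, hw, e2⟩ := (q4 n n1 (cp n5 hw').1 (cp n5 hw').2.1 (cp n5 hw').2.2).2
    have hw2 : V w ∧ f w ∈ X := by
      simp only [List.mem_cons, List.not_mem_nil, or_false] at hw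
      rcases hw with rfl | rfl | rfl | rfl
      exacts [⟨V_one, h.one ▸ one_mem _⟩, ⟨V_rp 2, tW⟩, ⟨n2, n3⟩, ⟨n2.mul (V_rp 2), h.mul n2 (V_rp 2) ▸ mul_mem n3 tW⟩]
    have e3 : l * f (mul z (mul n w)) * l⁻¹ = f (mul x w) := by
      rw [h.mul V_z (n5.mul hw2.1), h.mul n5 hw2.1, h.mul x1 hw2.1, e1, mul_assoc _ l⁻¹,
        ← (Commute.inv_right (hl _ hw2.2)).eq]; group
    have s1 : f (mul x w) * f (mul x w) = 1 := by
      rw [h.mul x1 hw2.1, mul_assoc, ← mul_assoc (f w), xC _ hw2.2, mul_self_cancel' (sqW _ hw2.2), hD'.sq x3]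
    refine e2 (Bool.eq_iff_iff.2 ?_)
    rw [H.zt_iff h ht (x1.mul hw2.1) (h.mul x1 hw2.1 ▸ mul_mem x2 (hle hw2.2).1) s1,
      H.zt_iff h ht (V_z.mul (n5.mul hw2.1)) (by
        rw [h.mul V_z (n5.mul hw2.1), h.mul n5 hw2.1]; exact mul_mem h.z_mem_T (hle (mul_mem hw' hw2.2)).1) (by
        rw [← e3] at s1
        calc _ = l⁻¹ * (l * f (mul z (mul n w)) * l⁻¹ * (l * f (mul z (mul n w)) * l⁻¹)) * l := by group
          _ = 1 := by rw [s1]; group), h.fu_of e3]

end Ty

theorem St.fu_tw (h : St f) {x : ℕ} (hx : V x) (h2 : HeR.mul x x = HeR.one) : Fu (HeR.tw f) x ↔ Fu f (ph x) := by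
  rw [Fu, Fu, h.tw_z, HeR.tw, inv_eq_of_mul_self ((h.sq hx.ph).2 (by rw [← ph_mul, h2]; decide +kernel))]

def inV1 (n : ℕ) : Bool := Nat.beq (Nat.land n 33554401) one
def inV2 (n : ℕ) : Bool := Nat.beq (Nat.land n 33013231) one
def BV2 : List ℕ := [17043537, 17044033, 17059905, 17567809]

theorem St.invar' (h : St f) {P : ℕ → Bool} (hP : scanH (fun n => imp (P n) (allLt 6 fun l => P (HeR.cjl l n))) = true)
    (hg : Commute g (f z)) {x y : ℕ} (a : Mp f f g x y) (hx : P x = true) : P y = true :=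
  h.invar (P := fun x => P x = true) (fun x hx hp l => by
    by_cases hl : l < 6
    · exact allLt_iff.1 (imp_iff.1 (scan hP hx) hp) l hl
    · have : gc l = HeR.one := by rw [gc, nthL_eq, List.getD_eq_default _ _ (by simpa [gl] using hl)]
      rwa [HeR.cjl, this, hx.mul_one, hx.one_mul]) hg a.1 a.2.1 a.2.2 hx

theorem A1.zero (h : St f) (h1 : ta < 2) (H : A1 f a ta) (h0 : ¬ Fu f (rp 0)) : ta = 0 := by
  interval_cases ta
  · rfl
  · have := (h.actw H.1 (ac_triv f) (dw 31526842967) (V_rp 0) (by decide +kernel)).cast rfl (show _ = z by decide +kernel)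
    exact absurd ((h.fu_of this.2.2).2 (IsConj.refl _)) h0

theorem A1.fu (h : St f) (H : A1 f a 0) (h0 : ¬ Fu f (rp 0)) {i : ℕ} (hi : i < 7) (hf : Fu f (rp i)) : i = 1 := by
  have h3 : ¬ Fu f (rp 3) := fun e => h0 ((h.fu_of ((H.1.act (rp 3) (by decide +kernel)).cast rfl
    (show _ = rp 0 by decide +kernel)).2.2).1 e)
  have := h.tw.nfu_d (by rwa [h.fu_tw (V_rp 1) (rp_sq 1), show ph (rp 1) = rp 0 by decide +kernel])
    (by rwa [h.fu_tw (V_rp 3) (rp_sq 3), show ph (rp 3) = rp 3 by decide +kernel])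
  rw [h.fu_tw (V_rp 5) (rp_sq 5), h.fu_tw (V_rp 6) (rp_sq 6), show ph (rp 5) = rp 6 by decide +kernel,
    show ph (rp 6) = rp 5 by decide +kernel] at this
  by_contra h6
  interval_cases i
  exacts [h0 hf, h6 rfl, h.nfu_t hf, h3 hf, h.nfu_b hf, this.2 hf, this.1 hf]

theorem A1.swap (H : A1 f a ta) (h1 : ta < 2) : a * f z * a⁻¹ = f u ∧ a * f u * a⁻¹ = f z :=
  ⟨((H.1.act z (by decide +kernel)).cast rfl (by clear H; revert ta; decide +kernel)).2.2,
    ((H.1.act u (by decide +kernel)).cast rfl (by clear H; revert ta; decide +kernel)).2.2⟩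

theorem A1.top (h : St f) (H : A1 f a 0) (h0 : ¬ Fu f (rp 0)) : genL (gg f a 1) (List.range 7) = ⊤ := by
  by_contra hM
  have ha : a ∈ genL (gg f a 1) (List.range 7) := mem_genL (gg f a 1) (x := 6) (by decide)
  generalize eM : genL (gg f a 1) (List.range 7) = M at hM ha
  have hH : ∀ {n}, V n → f n ∈ M := fun hn => eM ▸ h.mem_gen (by decide) hn
  obtain ⟨s1, s2⟩ := H.swap (by decide)
  have fx := h.fx hH fun i hi hf => by obtain rfl := H.fu h h0 hi hf; exact ⟨a, ha, s2⟩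
  have hP : ZD.PC G (G ⧸ M) {x | IsConj (f z) x} := by
    refine ⟨fun x hx => orderOf_of_isConj hx ▸ h.order_z, fun x hx g => hx.trans (isConj_iff.2 ⟨g, rfl⟩), fun x hx => ?_,
      fun x hx p q hp hq => ?_, fun x hx y hy hc hne => ?_⟩
    · obtain ⟨g, rfl⟩ := isConj_iff.1 hx
      exact ⟨g, SE.smul_mk_iff.2 (by simpa [mul_assoc] using hH V_z)⟩
    · obtain ⟨g, rfl⟩ := isConj_iff.1 hx
      induction p using QuotientGroup.induction_on with | H p => ?_
      induction q using QuotientGroup.induction_on with | H q => ?_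
      have p1 := fx (p⁻¹ * g) (by simpa [mul_assoc] using SE.smul_mk_iff.1 hp)
      have q1 := fx (q⁻¹ * g) (by simpa [mul_assoc] using SE.smul_mk_iff.1 hq)
      exact QuotientGroup.eq.2 (by simpa using mul_mem p1 (inv_mem q1))
    · obtain ⟨g, e⟩ := isConj_iff.1 hx
      have y2 := orderOf_of_isConj hy ▸ h.order_z
      obtain ⟨k, i, hi, e1, e2, -⟩ := h.pair e hc.symm (mul_self_of y2) (ne_one_of y2) hne.symm
      obtain rfl := H.fu h h0 hi (hy.trans (isConj_iff.2 ⟨k, e2⟩).symm)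
      have := (h.fu_cjw (dw 1) (V_rp 1)).2 (isConj_iff.2 ⟨a, s1⟩)
      rw [show HeR.cjw (dw 1) (rp 1) = mul z (rp 1) by decide +kernel, Fu, h.mul V_z (V_rp 1)] at this
      exact this.trans (isConj_iff.2 ⟨k, by rw [← e1, ← e2]; group⟩)
  obtain ⟨g, hg⟩ : ∃ g, g ∉ M := by
    by_contra! H
    exact hM (eq_top_iff.2 fun g _ => H g)
  have z1 := SE.smul_pt.2 (hH V_z)
  have y1 : IsConj (f z) (g * f z * g⁻¹) := isConj_iff.2 ⟨g, rfl⟩
  have y2 : (g * f z * g⁻¹) • SE.pt M ≠ SE.pt M := fun e => hg (fx g (SE.smul_pt.1 e))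
  have loc : ∀ n, V n → f n ∈ Subgroup.closure {x | IsConj (f z) x} → mul n n = one → n = one ∨ inV2 n = true :=
    fun n hn h1 h2 => or_iff_not_imp_left.2 fun h3 => by
      have hf : Fu f n := hP.loc (IsConj.refl _) z1 y1 y2 h1 (orderOf_two_iff.2 ⟨(h.sq hn).2 h2, mt (h.eq_one hn).1 h3⟩)
      rcases cls hn h2 with rfl | rfl | ⟨i, hi, w, rfl⟩
      · exact absurd rfl h3
      · decide +kernel
      · obtain rfl := H.fu h h0 hi ((h.fu_cjw w (V_rp i)).1 hf)
        exact h.invar' (by decide +kernel) (h.comm_z (V_evc w)) ⟨V_rp 1, hn, (h.cjw w (V_rp 1)).symm⟩ (by decide +kernel)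
  obtain ⟨b, hb⟩ := hP.ex _ y1
  obtain ⟨k, hk, e⟩ := hP.exists_conj (E := Subgroup.closure {x | IsConj (f z) x}) (IsConj.refl _) y1 z1 hb (fun e => y2 (e ▸ hb)) (Subgroup.subset_closure (IsConj.refl _))
    (Subgroup.subset_closure y1) (IsConj.refl _) (isConj_iff.2 ⟨a, s1⟩) (Subgroup.subset_closure (IsConj.refl _))
    (Subgroup.subset_closure (show IsConj (f z) (f u) from isConj_iff.2 ⟨a, s1⟩))
  have c : Commute (k⁻¹ * a) (f z) := mul_inv_eq_iff_eq_mul.1 (by
    calc _ = k⁻¹ * (a * f z * a⁻¹) * k := by group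
      _ = _ := by rw [s1, ← e]; group)
  obtain ⟨m, hm, e1⟩ := h.surj _ ((c.mul_left (h.comm_z V_x1)).mul_left c.inv_left)
  have m1 : inV1 m = true := h.invar' (by decide +kernel) c ⟨V_x1, hm, e1⟩ (by decide +kernel)
  have m2 : f (mul x2 m) ∈ Subgroup.closure {x | IsConj (f z) x} := by
    have e2 := ((H.1.act x1 (by decide +kernel)).cast rfl (show _ = x2 by decide +kernel)).2.2
    have e3 : f m * f m = 1 := by
      rw [← e1]
      calc _ = k⁻¹ * a * (f x1 * f x1) * (k⁻¹ * a)⁻¹ := by group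
        _ = 1 := by rw [(h.sq V_x1).2 (by decide +kernel)]; group
    have : f (mul x2 m) = k * (f m * k⁻¹ * (f m)⁻¹) := by
      rw [h.mul V_x2 hm, inv_eq_of_mul_self e3, ← e2]; nth_rw 2 [← e1]; group
    rw [this]
    exact mul_mem hk (hP.normal.conj_mem _ (inv_mem hk) _)
  have m3 := imp_iff.1 (scan (P := fun m => imp (inV1 m) (force (mul x2 m) fun e => force (mul e e) fun e2 =>
    bif' (Nat.beq e2 one) (band (!Nat.beq e one) (!inV2 e)) (band (Nat.beq (mul e2 e2) one) (!inV2 e2)))) (by decide +kernel) hm) m1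
  simp only [force_eq, bif'_eq, nbeq] at m3
  have hV := V_x2.mul hm
  split_ifs at m3 with m4 <;> simp only [band_eq, Bool.and_eq_true, Bool.not_eq_true', nbeq_false, nbeq] at m3
  · rcases loc _ hV m2 m4 with e | e
    exacts [m3.1 e, by simp [m3.2] at e]
  · rcases loc _ (hV.mul hV) (h.mul hV hV ▸ mul_mem m2 m2) m3.1 with e | e
    exacts [m4 e, by simp [m3.2] at e]

end Cfsg.Agent.HeR
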