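import Cfsg.Agent.HeR.Gen
import Cfsg.Agent.Spor.Act4
import Cfsg.Agent.Comp.Lin
import Cfsg.Agent.SE.Bender
import Cfsg.Agent.Block.ZStar
import Cfsg.Agent.S2133
import Cfsg.Agent.S2134
import Cfsg.Agent.S1695
import Cfsg.Agent.S0364
import Cfsg.Agent.S0365

/-! Held's theorem: groups with the involution centraliser of `L₅(2)` (`tetra`). -/

set_option autoImplicit false
set_option maxRecDepth 100000
set_option linter.unusedSectionVars false

namespace Cfsg.Agent.HeR

open Cfsg.Agent.Comp Cfsg.Agent.Spor Cfsg.Agent.BG Cfsg.Agent.Invol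

variable {G G' : Type*} [Group G] [Finite G] [Group G'] [Finite G'] {f : ℕ → G} {f' : ℕ → G'} {k : ℕ}

def RL (k : ℕ) : List (List ℕ) := if k = 0 then JHRgl.rels else if k = 1 then JHRgm.rels else if k = 2 then JHRge.rels else JHRp.rels
def NG (k : ℕ) : ℕ := if k < 3 then 8 else 7
def OR (k : ℕ) : ℕ := if k = 0 then 9999360 else if k = 1 then 244823040 else if k = 2 then 4030387200 else 322560

def Pres (f : ℕ → G) (k : ℕ) : Prop := k < 4 ∧ St f ∧ Fu f u ∧
  ∃ a d, (∀ r ∈ RL k, ev (gg f a d) r = 1) ∧ genL (gg f a d) (List.range (NG k)) = ⊤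

omit [Finite G] in
theorem card_RL {g : ℕ → G} (hk : k < 4) (he : g 255 = 1) (hg : ∀ r ∈ RL k, ev g r = 1) :
    CardLe (genL g (List.range (NG k))) (OR k) := by
  interval_cases k
  exacts [card_l he hg, card_m he hg, card_e he hg, card_p he hg]

theorem Pres.card_le (p : Pres f k) : Nat.card G ≤ OR k := by
  obtain ⟨hk, h, -, a, d, h1, h2⟩ := p
  have := (card_RL hk h.gg_255 h1).2
  rwa [h2, Subgroup.card_top] at this

theorem St.tw_u (h : St f) : Fu (HeR.tw f) u ↔ Fu f (rp 0) := by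
  rw [h.fu_tw V_u (rp_sq 1), show ph u = rp 0 by decide +kernel]

theorem St.tw_0 (h : St f) : Fu (HeR.tw f) (rp 0) ↔ Fu f u := by
  rw [h.fu_tw (V_rp 0) (rp_sq 0), show ph (rp 0) = u by decide +kernel]

theorem St.pres1 (h : St f) (h1 : Fu f u) (h0 : ¬ Fu f (rp 0)) : Pres f 3 := by
  obtain ⟨a, t, ht, H⟩ := h.exists_a h1
  obtain rfl := A1.zero h ht H h0
  exact ⟨by decide, h, h1, a, 1, h.rels_p H, A1.top h H h0⟩

theorem St.pres (h : St f) (hn : Fu f (rp 0) ∨ Fu f u) : ∃ f' : ℕ → G, ∃ k, Pres f' k := by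
  by_cases h1 : Fu f u
  swap
  · exact ⟨_, _, h.tw.pres1 (h.tw_u.2 (hn.resolve_right h1)) (mt h.tw_0.1 h1)⟩
  by_cases h0 : Fu f (rp 0)
  swap
  · exact ⟨_, _, h.pres1 h1 h0⟩
  obtain ⟨a, ta, h2, Ha⟩ := h.exists_a h1
  obtain ⟨d, td, h3, Hd⟩ := h.tw.exists_a (h.tw_u.2 h0)
  by_cases hc : ta = 1 ∧ td = 0
  · obtain ⟨rfl, rfl⟩ := hc
    obtain ⟨d', H⟩ := h.tw.exists_ty h3 h2 Hd (A1.tw_tw Ha)
    exact ⟨_, 1, by decide, h.tw, h.tw_u.2 h0, d', a, h.tw.rels_m H, H.top h.tw (by decide)⟩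
  obtain ⟨a', H⟩ := h.exists_ty h2 h3 Ha Hd
  interval_cases ta <;> interval_cases td
  exacts [⟨f, 0, by decide, h, h1, a', d, h.rels_l H, H.top h (by decide)⟩,
    ⟨f, 1, by decide, h, h1, a', d, h.rels_m H, H.top h (by decide)⟩, absurd ⟨rfl, rfl⟩ hc,
    ⟨f, 2, by decide, h, h1, a', d, h.rels_e H, H.top h (by decide)⟩]

theorem St.pres' (h : St f) (hn : ¬ IsIsolatedInvolution (f z)) : ∃ f' : ℕ → G, ∃ k, Pres f' k :=
  h.pres (by by_contra! H; exact hn (h.isolated H.1 H.2))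

theorem inv_of_fpf {K : Subgroup G} [K.Normal] {x : G} (h2 : x * x = 1) (H : ∀ y ∈ K, Commute y x → y = 1) {y : G}
    (hy : y ∈ K) : x * y * x⁻¹ = y⁻¹ := by
  have := MonoidHom.FixedPointFree.coe_eq_inv_of_involutive (φ := MulAut.conjNormal (H := K) x)
    (fun y e => Subtype.ext (H y y.2 (mul_inv_eq_iff_eq_mul.1 (congrArg Subtype.val e)).symm))
    (fun y => by rw [← MulAut.mul_apply, ← map_mul, h2, map_one, MulAut.one_apply])
  exact congrArg Subtype.val (congrFun this ⟨y, hy⟩)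

theorem St.ker_bot (h : St f) (h1 : Fu f u) {K : Subgroup G} [hK : K.Normal] (H : ∀ y ∈ K, Commute y (f z) → y = 1) : K = ⊥ := by
  have H' : ∀ {n}, Fu f n → ∀ y ∈ K, Commute y (f n) → y = 1 := fun hn y hy c => by
    obtain ⟨g, e⟩ := isConj_iff.1 hn
    have := H _ (hK.conj_mem' y hy g) (by simpa [← e, mul_assoc] using c.conj g⁻¹)
    exact conj_eq_one_iff.1 (show g⁻¹ * y * g⁻¹⁻¹ = 1 by rwa [inv_inv])
  obtain ⟨w, hw⟩ : ∃ w, HeR.cjw (dw w) (rp 1) = HeR.mul z u := ⟨1, by decide +kernel⟩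
  refine eq_bot_iff.2 fun y hy => H' (hw ▸ (h.fu_cjw _ (V_rp 1)).2 h1) y hy ?_
  have e1 := inv_of_fpf h.zz H (inv_mem hy)
  have e2 := inv_of_fpf ((h.sq V_u).2 (rp_sq 1)) (H' h1) hy
  rw [h.mul V_z V_u]
  refine (mul_inv_eq_iff_eq_mul.1 ?_).symm
  rw [inv_inv, ← e2] at e1
  exact (by group : _ = _).trans e1

omit [Finite G] in
theorem sj {A : Type*} [Group A] {φ : G →* A} {K : Subgroup G} (e : K.map φ = ⊤) : Function.Surjective (φ.comp K.subtype) :=
  fun x => by
    obtain ⟨y, hy, rfl⟩ : x ∈ K.map φ := e ▸ Subgroup.mem_top x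
    exact ⟨⟨y, hy⟩, rfl⟩

theorem Pres.iso (p : Pres f k) (p' : Pres f' k) (hc : Nat.card G' = OR k) : Nonempty (G ≃* G') := by
  obtain ⟨hk, h, -, a, d, h1, h2⟩ := p
  obtain ⟨-, h', hu, a', d', h1', h2'⟩ := p'
  let g : ℕ → G' × G := fun l => (gg f' a' d' l, gg f a d l)
  obtain ⟨hf, hK⟩ := card_RL (g := g) hk (Prod.ext (h'.gg_255 (a := a') (d := d')) (h.gg_255 (a := a) (d := d))) fun r hr => Prod.ext
    ((map_ev (MonoidHom.fst G' G) g r).trans (h1' r hr)) ((map_ev (MonoidHom.snd G' G) g r).trans (h1 r hr))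
  have s1 : (genL g (List.range (NG k))).map (MonoidHom.fst G' G) = ⊤ := (map_genL' ..).trans h2'
  have s2 : (genL g (List.range (NG k))).map (MonoidHom.snd G' G) = ⊤ := (map_genL' ..).trans h2
  have hm : ∀ n, V n → (f' n, f n) ∈ genL g (List.range (NG k)) := fun n hn => by
    obtain ⟨w, rfl⟩ := hn.gen
    rw [h.evc, h'.evc]
    clear hn
    induction w with
    | nil => exact one_mem _
    | cons l w ih =>
      refine mul_mem ih (?_ : (f' (gc l), f (gc l)) ∈ _)
      by_cases hl : l < 6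
      · have := mem_genL g (List.mem_range.2 (show l < NG k by unfold NG; split_ifs <;> omega))
        simp only [g, gg] at this
        rwa [if_neg (by omega), if_neg (by omega), if_neg (by omega), if_neg (by omega)] at this
      · have : gc l = HeR.one := by rw [gc, nthL_eq, List.getD_eq_default _ _ (by simpa [gl] using hl)]
        rw [this, h.one, h'.one]; exact one_mem _
  generalize genL g (List.range (NG k)) = K at *
  let π := MulEquiv.ofBijective _ ((Nat.bijective_iff_surjective_and_card _).2 ⟨sj s1, le_antisymm (hc ▸ hK)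
    (Nat.card_le_card_of_surjective _ (sj s1))⟩)
  let ψ : G' →* G := ((MonoidHom.snd G' G).comp K.subtype).comp π.symm.toMonoidHom
  have hψ : ∀ n, V n → ψ (f' n) = f n := fun n hn => by
    have : π.symm (f' n) = ⟨_, hm n hn⟩ := π.symm_apply_eq.2 rfl
    simp [ψ, this]
  refine ⟨(MulEquiv.ofBijective ψ ⟨(MonoidHom.ker_eq_bot_iff _).1 (h'.ker_bot hu fun y hy c => ?_),
    (sj s2).comp π.symm.surjective⟩).symm⟩
  obtain ⟨n, hn, rfl⟩ := h'.surj y c
  exact (h'.eq_one hn).2 ((h.eq_one hn).1 ((hψ n hn).symm.trans hy))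

theorem Pres.eq (p : Pres f k) {k' : ℕ} (p' : Pres f' k') (h : Nat.card G = OR k) (h' : Nat.card G' = OR k')
    (e : Nat.card G = Nat.card G') : Nonempty (G ≃* G') := by
  have : ∀ k < 4, ∀ k' < 4, OR k = OR k' → k = k' := by decide
  obtain rfl := this k p.1 k' p'.1 (h ▸ h' ▸ e)
  exact p.iso p' h'

theorem St.not_iso [IsSimpleGroup G] (h : St f) : ¬ IsIsolatedInvolution (f z) := fun hi => by
  have he : Even (Nat.card G) := even_iff_two_dvd.2 (h.order_z ▸ orderOf_dvd_natCard _)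
  have hz := Block.zstar_center hi (SE.oddCore_simple he)
  have h1 : Subgroup.center G = ⊤ := (IsSimpleGroup.eq_bot_or_eq_top_of_normal _ inferInstance).resolve_left fun e =>
    h.z_ne (by simpa [e] using hz)
  have : Commute (f x1) (f x3) := Subgroup.mem_center_iff.1 (h1 ▸ Subgroup.mem_top (f x3)) _
  exact absurd ((h.cm V_x1 V_x3).2 this) (by decide +kernel)

def s0 : SL5 := ⟨Matrix.transvection 0 1 1, Matrix.det_transvection_of_ne _ _ (by decide) _⟩

theorem model_e : ∃ f : ℕ → Cfsg.Spor.He, Pres f 2 := by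
  have := S1695.result.1
  have : Finite Cfsg.Spor.He := Nat.finite_of_card_ne_zero (by rw [S1695.result.2]; decide)
  obtain ⟨j, hj, ⟨e⟩⟩ := S2134.result s0 rfl
  obtain ⟨f, h, -⟩ := exists_st' s0 rfl j hj e
  obtain ⟨f', k, p⟩ := h.pres' h.not_iso
  have h1 := p.card_le
  have h2 := p.1
  rw [S1695.result.2] at h1
  interval_cases k
  exacts [absurd h1 (by decide), absurd h1 (by decide), ⟨f', p⟩, absurd h1 (by decide)]

theorem Pres.he (p : Pres f 2) : Nonempty (G ≃* Cfsg.Spor.He) := by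
  have : Finite Cfsg.Spor.He := Nat.finite_of_card_ne_zero (by rw [S1695.result.2]; decide)
  obtain ⟨f', p'⟩ := model_e
  exact p.iso p' S1695.result.2

theorem Pres.card_e (p : Pres f 2) : Nat.card G = 4030387200 := by
  obtain ⟨e⟩ := p.he; exact (Nat.card_congr e.toEquiv).trans S1695.result.2

theorem model_m : ∃ f : ℕ → Cfsg.M24, Pres f 1 := by
  have := S0365.result
  obtain ⟨j, hj, ⟨e⟩⟩ := S2133.result s0 rfl
  obtain ⟨f, h, -⟩ := exists_st' s0 rfl j hj e
  obtain ⟨f', k, p⟩ := h.pres' h.not_iso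
  have h1 := p.card_le
  have h2 := p.1
  rw [S0364.result] at h1
  interval_cases k
  exacts [absurd h1 (by decide), ⟨f', p⟩, absurd (S0364.result.symm.trans p.card_e) (by decide), absurd h1 (by decide)]

theorem Pres.m24 (p : Pres f 1) : Nonempty (G ≃* Cfsg.M24) := by
  obtain ⟨f', p'⟩ := model_m
  exact p.iso p' S0364.result

theorem Pres.card_m (p : Pres f 1) : Nat.card G = 244823040 := by
  obtain ⟨e⟩ := p.m24; exact (Nat.card_congr e.toEquiv).trans S0364.result

theorem card_SL5 : Nat.card SL5 = 9999360 := (card_SL2F 5 (by decide)).trans (by decide)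

def P34 : SL5 := ⟨!![1,0,0,0,0; 0,1,0,0,0; 0,0,1,0,0; 0,0,0,0,1; 0,0,0,1,0], by decide +kernel⟩

theorem P34_conj : P34 * toSL z * P34⁻¹ = toSL (rp 0) := by
  rw [mul_inv_eq_iff_eq_mul]
  refine SL_ext ?_
  show P34.1 * (toSL z).1 = (toSL (rp 0)).1 * P34.1
  rw [coe_toSL V_z, coe_toSL (V_rp 0)]
  decide +kernel

theorem model_l : ∃ f : ℕ → SL5, Pres f 0 := by
  obtain ⟨f', k, p⟩ := st_toSL.pres (.inl (isConj_iff.2 ⟨_, P34_conj⟩))
  have h1 := p.card_le
  have h2 := p.1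
  rw [card_SL5] at h1
  interval_cases k
  exacts [⟨f', p⟩, absurd (card_SL5.symm.trans p.card_m) (by decide), absurd (card_SL5.symm.trans p.card_e) (by decide),
    absurd h1 (by decide)]

theorem Pres.sl5 (p : Pres f 0) : Nonempty (G ≃* SL5) := by
  obtain ⟨f', p'⟩ := model_l
  exact p.iso p' card_SL5

theorem Pres.card_l (p : Pres f 0) : Nat.card G = 9999360 := by
  obtain ⟨e⟩ := p.sl5; exact (Nat.card_congr e.toEquiv).trans card_SL5

def e0 : Fin 5 → ZMod 2 := ![1, 0, 0, 0, 0]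
abbrev Stb := MulAction.stabilizer SL5 e0

theorem toSL_mem (n : ℕ) : toSL n ∈ Stb := by
  by_cases hn : V n
  · refine genL_le (fun x hx => ?_) (st_toSL.mem_gen (a := 1) (d := 1) le_rfl hn)
    have h6 := List.mem_range.1 hx
    rw [gg, if_neg (by omega), if_neg (by omega)]
    show (toSL (gc x)).1.mulVec e0 = e0
    rw [coe_toSL (V_gc x)]
    clear hx; revert x; decide +kernel
  · simp [toSL, hn]

theorem card_Stb : 322560 ≤ Nat.card Stb ∧ Nat.card Stb < 9999360 := by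
  have h1 := Stb.index_mul_card
  have h2 : Stb.index ≤ 31 := by
    rw [MulAction.index_stabilizer]
    refine (Set.ncard_le_ncard (t := {0}ᶜ) ?_).trans (by rw [Set.ncard_compl]; simp)
    rintro _ ⟨g, rfl⟩ e
    exact absurd ((smul_eq_zero_iff_eq g).1 e) (by decide)
  have h3 : Stb.index ≠ 1 := fun e => by
    let P : SL5 := ⟨!![0,1,0,0,0; 1,0,0,0,0; 0,0,1,0,0; 0,0,0,1,0; 0,0,0,0,1], by decide +kernel⟩
    have : P.1.mulVec e0 = e0 := (Subgroup.index_eq_one.1 e ▸ Subgroup.mem_top P : P ∈ Stb)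
    revert this; decide +kernel
  rw [card_SL5] at h1
  generalize Stb.index = i at *
  interval_cases i <;> omega

theorem model_p : ∃ f : ℕ → Stb, Pres f 3 := by
  have h : St fun n => (⟨toSL n, toSL_mem n⟩ : Stb) := ⟨fun a b => Subtype.ext (st_toSL.mul a b),
    fun a b e => st_toSL.inj a b (congrArg Subtype.val e), fun g hg => (st_toSL.surj g (congrArg Subtype.val hg)).imp
      fun n hn => ⟨hn.1, Subtype.ext hn.2⟩⟩
  obtain ⟨f', k, p⟩ := h.pres (.inl (isConj_iff.2 ⟨⟨P34, show P34.1.mulVec e0 = e0 by decide +kernel⟩, Subtype.ext P34_conj⟩))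
  have h2 := p.1
  have h3 := card_Stb.2
  interval_cases k
  exacts [absurd p.card_l (by omega), absurd p.card_m (by omega), absurd p.card_e (by omega), ⟨f', p⟩]

theorem card_Stb' : Nat.card Stb = 322560 := by
  obtain ⟨f', p'⟩ := model_p
  exact le_antisymm p'.card_le card_Stb.1

theorem Pres.stb (p : Pres f 3) : Nonempty (G ≃* Stb) := by
  obtain ⟨f', p'⟩ := model_p
  exact p.iso p' card_Stb'

theorem Pres.card (p : Pres f k) : Nat.card G = OR k := by
  have := p.1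
  interval_cases k
  exacts [p.card_l, p.card_m, p.card_e, by obtain ⟨e⟩ := p.stb; exact (Nat.card_congr e.toEquiv).trans card_Stb']

theorem Pres.tetra (p : Pres f k) : Nonempty (G ≃* Stb) ∨ Nonempty (G ≃* SL5) ∨ Nonempty (G ≃* Cfsg.M24) ∨
    Nonempty (G ≃* Cfsg.Spor.He) := by
  have := p.1
  interval_cases k
  exacts [.inr (.inl p.sl5), .inr (.inr (.inl p.m24)), .inr (.inr (.inr p.he)), .inl p.stb]

theorem Stb_not_simple : ¬ IsSimpleGroup Stb := fun hs => by
  let N : Subgroup Stb :=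
    { carrier := {g | ∀ x : Fin 5 → ZMod 2, ∃ c : ZMod 2, g • x = x + c • e0}
      one_mem' := fun x => ⟨0, by simp⟩
      mul_mem' := fun {g k} hg hk x => by
        obtain ⟨c, e⟩ := hk x
        obtain ⟨c', e'⟩ := hg (k • x)
        exact ⟨c + c', by rw [mul_smul, e', e, add_smul, add_assoc]⟩
      inv_mem' := fun {g} hg x => by
        obtain ⟨c, e⟩ := hg (g⁻¹ • x)
        exact ⟨-c, by rw [smul_inv_smul] at e; rw [neg_smul, ← sub_eq_add_neg, eq_sub_iff_add_eq, ← e]⟩ }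
  have hN : N.Normal := ⟨fun g hg k x => by
    obtain ⟨c, e⟩ := hg (k⁻¹ • x)
    refine ⟨c, ?_⟩
    rw [mul_smul, mul_smul, e, smul_add, smul_inv_smul]
    exact congrArg _ ((smul_comm k.1 c e0).trans (congrArg _ k.2))⟩
  rcases hN.eq_bot_or_eq_top with e | e
  · have : (⟨toSL z, toSL_mem z⟩ : Stb) ∈ N := fun x => by
      show ∃ c : ZMod 2, (toSL z).1.mulVec x = _
      rw [coe_toSL V_z]; revert x; decide +kernel
    rw [e] at this
    exact st_toSL.z_ne (congrArg Subtype.val this)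
  · obtain ⟨c, e1⟩ : ∃ c : ZMod 2, (toSL u).1.mulVec ![0, 0, 0, 0, 1] = _ :=
      (e ▸ Subgroup.mem_top _ : (⟨toSL u, toSL_mem u⟩ : Stb) ∈ N) ![0, 0, 0, 0, 1]
    rw [coe_toSL V_u] at e1
    revert c; decide +kernel

end Cfsg.Agent.HeR
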